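import Groth.Agent.Lib.GrassClosed13.Zero
import Groth.Agent.Lib.Grass.FlagGrass
import Groth.Agent.Lib.ModM1.Local
import Mathlib.CategoryTheory.Abelian.Basic

/-!
# The map of Grassmannians of an epimorphism is a closed immersion
-/

set_option autoImplicit false
set_option backward.isDefEq.respectTransparency false
set_option linter.unusedSectionVars false
set_option linter.style.haveILetI false

universe u

open CategoryTheory CategoryTheory.Limits AlgebraicGeometry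

namespace Groth.Agent.GrassClosed13

variable {X G₁ G₂ : Scheme.{u}} {π₁ : G₁ ⟶ X} {π₂ : G₂ ⟶ X} {E₁ E₂ : X.Modules} (v : E₁ ⟶ E₂) [Epi v]
  {e : ℕ} {Q₁ : G₁.Modules} {q₁ : (Scheme.Modules.pullback π₁).obj E₁ ⟶ Q₁}
  (hG₁ : Grass.IsGrass π₁ E₁ e Q₁ q₁)
  {Q₂ : G₂.Modules} {q₂ : (Scheme.Modules.pullback π₂).obj E₂ ⟶ Q₂} (hG₂ : Grass.IsGrass π₂ E₂ e Q₂ q₂)

omit [Epi v] in
theorem quotBC_map {F T : Scheme.{u}} {π : F ⟶ X} {Q : F.Modules}
    (q : (Scheme.Modules.pullback π).obj E₂ ⟶ Q) {h : T ⟶ F} {g : T ⟶ X} (hg : h ≫ π = g) :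
    Grass.quotBC hg ((Scheme.Modules.pullback π).map v ≫ q) =
      (Scheme.Modules.pullback g).map v ≫ Grass.quotBC hg q := by
  subst hg
  have h1 := (Scheme.Modules.pullbackComp h π).inv.naturality v
  have h2 : (Scheme.Modules.pullbackComp h π).inv.app E₁ ≫
      (Scheme.Modules.pullback h).map ((Scheme.Modules.pullback π).map v) =
      (Scheme.Modules.pullback (h ≫ π)).map v ≫ (Scheme.Modules.pullbackComp h π).inv.app E₂ := h1.symm
  simp only [Grass.quotBC, Scheme.Modules.pullbackCongr, eqToIso_refl, Iso.refl_inv, NatTrans.id_app,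
    Category.id_comp, Functor.map_comp]
  exact (Category.assoc _ _ _).symm.trans ((congrArg (fun t => t ≫ (Scheme.Modules.pullback h).map q) h2).trans
    (Category.assoc _ _ _))

theorem exists_quotBC_of_eq {F T : Scheme.{u}} {π : F ⟶ X} {E : X.Modules} {Q : F.Modules}
    (q : (Scheme.Modules.pullback π).obj E ⟶ Q) {h h' : T ⟶ F} (e' : h = h') {g : T ⟶ X}
    (hg : h ≫ π = g) (hg' : h' ≫ π = g) :
    ∃ i : (Scheme.Modules.pullback h).obj Q ≅ (Scheme.Modules.pullback h').obj Q,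
      Grass.quotBC hg q ≫ i.hom = Grass.quotBC hg' q := by
  subst e'
  exact ⟨Iso.refl _, Category.comp_id _⟩

/-- The quotient classified by the composite with the map of Grassmannians. -/
theorem exists_quot_comp {T : Scheme.{u}} (d : T ⟶ G₂) {g : T ⟶ X} (hd : d ≫ π₂ = g)
    (h : (d ≫ hG₁.mapOfEpi hG₂ v) ≫ π₁ = g) :
    ∃ i : (Scheme.Modules.pullback (d ≫ hG₁.mapOfEpi hG₂ v)).obj Q₁ ≅ (Scheme.Modules.pullback d).obj Q₂,
      Grass.quotBC h q₁ ≫ i.hom = (Scheme.Modules.pullback g).map v ≫ Grass.quotBC hd q₂ := by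
  haveI := hG₂.epi
  haveI := Grass.epi_pullback_map π₂ v
  have hepi : Epi ((Scheme.Modules.pullback π₂).map v ≫ q₂) := epi_comp _ _
  let e₁ := hG₁.liftIso π₂ Q₂ hG₂.rank ((Scheme.Modules.pullback π₂).map v ≫ q₂) hepi
  have he : Grass.quotBC (hG₁.mapOfEpi_comp hG₂ v) q₁ ≫ e₁.hom = (Scheme.Modules.pullback π₂).map v ≫ q₂ :=
    hG₁.quotBC_liftIso π₂ Q₂ hG₂.rank ((Scheme.Modules.pullback π₂).map v ≫ q₂) hepi
  refine ⟨((Scheme.Modules.pullbackComp d (hG₁.mapOfEpi hG₂ v)).app Q₁).symm ≪≫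
    (Scheme.Modules.pullback d).mapIso e₁, ?_⟩
  have h2 := GrassLib.quotBC_comp_map hd (Grass.quotBC (hG₁.mapOfEpi_comp hG₂ v) q₁) e₁.hom
  rw [he, quotBC_map v q₂ hd] at h2
  rw [GrassLib.quotBC_comp q₁ (hG₁.mapOfEpi_comp hG₂ v) hd h, h2, Category.assoc]
  refine congrArg (_ ≫ ·) ?_
  simp

theorem mono_mapOfEpi : Mono (hG₁.mapOfEpi hG₂ v) := by
  refine ⟨fun {T} d d' hdd => ?_⟩
  haveI := hG₂.epi
  have hg : d ≫ π₂ = d' ≫ π₂ := by
    rw [← hG₁.mapOfEpi_comp hG₂ v, ← Category.assoc, hdd, Category.assoc]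
  have h : (d ≫ hG₁.mapOfEpi hG₂ v) ≫ π₁ = d' ≫ π₂ := by rw [Category.assoc, hG₁.mapOfEpi_comp, hg]
  have h' : (d' ≫ hG₁.mapOfEpi hG₂ v) ≫ π₁ = d' ≫ π₂ := by rw [Category.assoc, hG₁.mapOfEpi_comp]
  obtain ⟨i, hi⟩ := exists_quot_comp v hG₁ hG₂ d hg h
  obtain ⟨i', hi'⟩ := exists_quot_comp v hG₁ hG₂ d' rfl h'
  obtain ⟨w, hw⟩ := exists_quotBC_of_eq q₁ hdd h h'
  haveI := Grass.epi_pullback_map (d' ≫ π₂) v
  have hs : Grass.quotBC hg q₂ ≫ (i.symm ≪≫ w ≪≫ i').hom = Grass.quotBC rfl q₂ := by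
    rw [← cancel_epi ((Scheme.Modules.pullback (d' ≫ π₂)).map v), ← Category.assoc, ← hi, ← hi', ← hw]
    simp only [Iso.trans_hom, Iso.symm_hom, Category.assoc, Iso.hom_inv_id_assoc]
  have hL := M2.isFinLocFreeOfRank_pullback d' hG₂.rank
  exact (hG₂.lift_unique (d' ≫ π₂) _ hL (Grass.quotBC rfl q₂) (GrassLib.epi_quotBC rfl) d hg _ hs).trans
    (hG₂.lift_unique (d' ≫ π₂) _ hL (Grass.quotBC rfl q₂) (GrassLib.epi_quotBC rfl) d' rfl (Iso.refl _)
      (Category.comp_id _)).symm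

variable {V T : Scheme.{u}} (j : V ⟶ G₁)

/-- The obstruction on `V`: the kernel of `E₁ ⟶ E₂` mapping to the universal quotient. -/
noncomputable def obstr : kernel ((Scheme.Modules.pullback (j ≫ π₁)).map v) ⟶
    (Scheme.Modules.pullback j).obj Q₁ :=
  kernel.ι _ ≫ Grass.quotBC (π := π₁) (h := j) (g := j ≫ π₁) rfl q₁

include hG₁ hG₂ in
theorem obstr_map_eq_zero_iff (h : T ⟶ V) :
    (Scheme.Modules.pullback h).map (obstr (q₁ := q₁) v j) = 0 ↔
      ∃ d : T ⟶ G₂, d ≫ hG₁.mapOfEpi hG₂ v = h ≫ j := by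
  haveI := hG₁.epi
  haveI := hG₂.epi
  let a := j ≫ π₁
  let q' := Grass.quotBC (π := π₁) (h := j) (g := j ≫ π₁) rfl q₁
  haveI : Epi q' := GrassLib.epi_quotBC rfl
  haveI hv' : Epi ((Scheme.Modules.pullback a).map v) := Grass.epi_pullback_map a v
  let S := ShortComplex.mk (kernel.ι ((Scheme.Modules.pullback a).map v)) ((Scheme.Modules.pullback a).map v)
    (kernel.condition _)
  have hcok : IsColimit (CokernelCofork.ofπ ((Scheme.Modules.pullback a).map v) (kernel.condition _) :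
      CokernelCofork (kernel.ι ((Scheme.Modules.pullback a).map v))) :=
    Abelian.epiIsCokernelOfKernel _ (limit.isLimit _)
  haveI : PreservesColimitsOfSize.{0, 0} (Scheme.Modules.pullback h) :=
    (Scheme.Modules.pullbackPushforwardAdjunction h).leftAdjoint_preservesColimits
  have : Functor.Additive (Scheme.Modules.pullback h) :=
    Functor.additive_of_preserves_binary_products _
  have hcok' := CokernelCofork.mapIsColimit _ hcok (Scheme.Modules.pullback h)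
  have hg : (h ≫ j) ≫ π₁ = h ≫ a := Category.assoc _ _ _
  constructor
  · intro h0
    have h0' : (Scheme.Modules.pullback h).map (kernel.ι ((Scheme.Modules.pullback a).map v)) ≫
        (Scheme.Modules.pullback h).map q' = 0 := by rw [← Functor.map_comp]; exact h0
    obtain ⟨t, ht⟩ := CokernelCofork.IsColimit.desc' hcok' ((Scheme.Modules.pullback h).map q') h0'
    change (Scheme.Modules.pullback h).map ((Scheme.Modules.pullback a).map v) ≫ t = _ at ht
    let t' : (Scheme.Modules.pullback (h ≫ a)).obj E₂ ⟶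
        (Scheme.Modules.pullback h).obj ((Scheme.Modules.pullback j).obj Q₁) :=
      (Scheme.Modules.pullbackComp h a).inv.app E₂ ≫ t
    have htv : (Scheme.Modules.pullback (h ≫ a)).map v ≫ t' = Grass.quotBC (rfl : h ≫ a = h ≫ a) q' := by
      simp only [t', Grass.quotBC, Scheme.Modules.pullbackCongr, eqToIso_refl, Iso.refl_inv, NatTrans.id_app,
        Category.id_comp]
      rw [← ht]
      exact (Category.assoc _ _ _).symm.trans ((congrArg (fun s => s ≫ t)
        ((Scheme.Modules.pullbackComp h a).inv.naturality v)).trans (Category.assoc _ _ _))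
    haveI : Epi (Grass.quotBC (rfl : h ≫ a = h ≫ a) q') := GrassLib.epi_quotBC rfl
    haveI : Epi ((Scheme.Modules.pullback (h ≫ a)).map v ≫ t') := by rw [htv]; infer_instance
    have ht' : Epi t' := epi_of_epi ((Scheme.Modules.pullback (h ≫ a)).map v) t'
    have hL : FlatMod.IsFinLocFreeOfRank e ((Scheme.Modules.pullback h).obj ((Scheme.Modules.pullback j).obj Q₁)) :=
      M2.isFinLocFreeOfRank_pullback h (M2.isFinLocFreeOfRank_pullback j hG₁.rank)
    let d := hG₂.lift (h ≫ a) _ hL t' ht'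
    have hd : d ≫ π₂ = h ≫ a := hG₂.lift_comp _ _ _ _ _
    have hdc : (d ≫ hG₁.mapOfEpi hG₂ v) ≫ π₁ = h ≫ a := by rw [Category.assoc, hG₁.mapOfEpi_comp, hd]
    refine ⟨d, ?_⟩
    obtain ⟨i, hi⟩ := exists_quot_comp v hG₁ hG₂ d hd hdc
    have hepi : Epi (Grass.quotBC (rfl : h ≫ a = h ≫ a) q') := GrassLib.epi_quotBC rfl
    refine (hG₁.lift_unique (h ≫ a) _ hL (Grass.quotBC rfl q') hepi _ hdc
      (i ≪≫ hG₂.liftIso (h ≫ a) _ hL t' ht') ?_).trans
      (hG₁.lift_unique (h ≫ a) _ hL (Grass.quotBC rfl q') hepi (h ≫ j) hg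
        ((Scheme.Modules.pullbackComp h j).app Q₁).symm ?_).symm
    · exact ((Category.assoc _ _ _).symm.trans ((congrArg (· ≫ _) hi).trans (Category.assoc _ _ _))).trans
        ((congrArg (_ ≫ ·) (hG₂.quotBC_liftIso (h ≫ a) _ hL t' ht')).trans htv)
    · rw [GrassLib.quotBC_comp q₁ (rfl : j ≫ π₁ = j ≫ π₁) (rfl : h ≫ a = h ≫ a) hg]
      rw [Iso.symm_hom, Iso.app_inv, Category.assoc, Iso.hom_inv_id_app]
      exact Category.comp_id _
  · rintro ⟨d, hd⟩
    have hdπ : d ≫ π₂ = h ≫ a := by rw [← hG₁.mapOfEpi_comp hG₂ v, ← Category.assoc, hd, hg]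
    have hdc : (d ≫ hG₁.mapOfEpi hG₂ v) ≫ π₁ = h ≫ a := by rw [hd, hg]
    obtain ⟨i, hi⟩ := exists_quot_comp v hG₁ hG₂ d hdπ hdc
    obtain ⟨w, hw⟩ := exists_quotBC_of_eq q₁ hd hdc hg
    rw [GrassLib.quotBC_comp q₁ (rfl : j ≫ π₁ = j ≫ π₁) (rfl : h ≫ a = h ≫ a) hg] at hw
    let s := Grass.quotBC hdπ q₂ ≫ i.inv ≫ w.hom ≫ (Scheme.Modules.pullbackComp h j).inv.app Q₁
    have hs : Grass.quotBC (rfl : h ≫ a = h ≫ a) q' = (Scheme.Modules.pullback (h ≫ a)).map v ≫ s := by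
      simp only [s]
      rw [← Category.assoc ((Scheme.Modules.pullback (h ≫ a)).map v), ← hi, Category.assoc, Iso.hom_inv_id_assoc,
        ← Category.assoc _ w.hom, hw, Category.assoc, Iso.hom_inv_id_app]
      exact (Category.comp_id _).symm
    simp only [Grass.quotBC, Scheme.Modules.pullbackCongr, eqToIso_refl, Iso.refl_inv, NatTrans.id_app,
      Category.id_comp] at hs
    show (Scheme.Modules.pullback h).map (kernel.ι _ ≫ q') = 0
    rw [Functor.map_comp]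
    have h2 : (Scheme.Modules.pullback h).map q' = (Scheme.Modules.pullbackComp h a).hom.app E₁ ≫
        (Scheme.Modules.pullback (h ≫ a)).map v ≫ s := by
      rw [← hs, Iso.hom_inv_id_app_assoc]
    rw [h2]
    have h3 : (Scheme.Modules.pullback h).map ((Scheme.Modules.pullback a).map v) ≫
        (Scheme.Modules.pullbackComp h a).hom.app E₂ =
        (Scheme.Modules.pullbackComp h a).hom.app E₁ ≫ (Scheme.Modules.pullback (h ≫ a)).map v :=
      (Scheme.Modules.pullbackComp h a).hom.naturality v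
    rw [← reassoc_of% h3, ← Functor.map_comp_assoc, kernel.condition, Functor.map_zero, Limits.zero_comp]

theorem isClosedImmersion_mapOfEpi (hE₁ : Coh.IsQCoh E₁) (hE₂ : Coh.IsQCoh E₂) :
    IsClosedImmersion (hG₁.mapOfEpi hG₂ v) := by
  let c := hG₁.mapOfEpi hG₂ v
  haveI : Mono c := mono_mapOfEpi v hG₁ hG₂
  have hloc : ∀ x : G₁, ∃ V : G₁.Opens, x ∈ V ∧ IsClosedImmersion (c ∣_ V) := by
    intro x
    obtain ⟨U, hxU, ⟨eU⟩⟩ := hG₁.rank x
    obtain ⟨V, hV, hxV, hVU⟩ := exists_isAffineOpen_mem_and_subset hxU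
    haveI : IsAffine V.toScheme := hV
    refine ⟨V, hxV, ?_⟩
    let k : V.toScheme ⟶ U.toScheme := G₁.homOfLE hVU
    let eV : (Scheme.Modules.pullback V.ι).obj Q₁ ≅ FlatMod.freeMod V.toScheme e :=
      (Scheme.Modules.pullbackCongr (G₁.homOfLE_ι hVU).symm).app Q₁ ≪≫
        ((Scheme.Modules.pullbackComp k U.ι).app Q₁).symm ≪≫
        (Scheme.Modules.pullback k).mapIso
          (((Scheme.Modules.restrictFunctorIsoPullback U.ι).app Q₁).symm ≪≫ eU) ≪≫
        M2.freeModPullbackIso k e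
    haveI : Coh.IsQCoh (kernel ((Scheme.Modules.pullback (V.ι ≫ π₁)).map v)) :=
      M1.isQCoh_kernel (M1.isQCoh_pullback _ hE₁) (M1.isQCoh_pullback _ hE₂) _
    obtain ⟨Z, ι, hι, huniv⟩ := exists_zero_locus eV (obstr (q₁ := q₁) v V.ι)
    obtain ⟨h', hh'⟩ := (huniv _ (c ∣_ V)).1
      ((obstr_map_eq_zero_iff v hG₁ hG₂ V.ι _).2 ⟨(c ⁻¹ᵁ V).ι, (morphismRestrict_ι c V).symm⟩)
    obtain ⟨d, hd⟩ := (obstr_map_eq_zero_iff v hG₁ hG₂ V.ι ι).1 ((huniv _ ι).2 ⟨𝟙 _, Category.id_comp _⟩)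
    have hrange : Set.range d ⊆ Set.range (c ⁻¹ᵁ V).ι := by
      rintro _ ⟨z, rfl⟩
      rw [Scheme.Opens.range_ι]
      show c (d z) ∈ V
      rw [← Scheme.Hom.comp_apply, hd, Scheme.Hom.comp_apply]
      exact (ι z).2
    let z := IsOpenImmersion.lift (c ⁻¹ᵁ V).ι d hrange
    have hz : z ≫ (c ⁻¹ᵁ V).ι = d := IsOpenImmersion.lift_fac _ _ _
    have hzc : z ≫ c ∣_ V = ι := by
      rw [← cancel_mono V.ι, Category.assoc, morphismRestrict_ι, reassoc_of% hz, hd]
    haveI : IsIso h' := ⟨z, by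
      rw [← cancel_mono ((c ⁻¹ᵁ V).ι ≫ c), ← morphismRestrict_ι]
      rw [Category.assoc, reassoc_of% hzc, reassoc_of% hh', Category.id_comp],
      by rw [← cancel_mono ι, Category.assoc, hh', hzc, Category.id_comp]⟩
    rw [← hh']
    infer_instance
  choose V hxV hV using hloc
  exact IsZariskiLocalAtTarget.of_iSup_eq_top V
    (top_le_iff.1 fun x _ => TopologicalSpace.Opens.mem_iSup.2 ⟨x, hxV x⟩) hV

end Groth.Agent.GrassClosed13
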