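import Groth.Agent.Lib.ModLimH13.Hom1
import Groth.Agent.Lib.VeryAmple11.BundleTwist
import Groth.Prelude.Def_FlatMod2
import Mathlib.CategoryTheory.Preadditive.Basic

/-!
# The vanishing locus of a morphism into a free module on an affine scheme
-/

set_option autoImplicit false
set_option backward.isDefEq.respectTransparency false
set_option backward.isDefEq.respectTransparency.types false

universe u

open CategoryTheory CategoryTheory.Limits AlgebraicGeometry Opposite

namespace Groth.Agent.GrassClosed13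

set_option linter.unusedSectionVars false

variable {U T : Scheme.{u}} [IsAffine U] {K : U.Modules} [Coh.IsQCoh K]

/-- The values of a morphism to the structure module on global sections. -/
noncomputable def val (ψ : K ⟶ Coh.structureModule U) (s : Γ(K, ⊤)) : Γ(U, ⊤) :=
  show Γ(U, ⊤) from ψ.app ⊤ s

theorem pullback_map_eq_zero_iff (h : T ⟶ U) (ψ : K ⟶ Coh.structureModule U) :
    (Scheme.Modules.pullback h).map ψ = 0 ↔ ∀ s, h.appTop (val ψ s) = 0 := by
  have key : ∀ s : Γ(K, ⊤), ((Scheme.Modules.pullback h).map ψ ≫ (PicLoc.pullbackStructureIso h).hom).app (h ⁻¹ᵁ ⊤)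
      (ModLimH13.res' h K le_rfl s) = (show Γ(Coh.structureModule T, h ⁻¹ᵁ ⊤) from h.appTop (val ψ s)) := by
    intro s
    rw [M1.comp_app_apply, ModLimH13.map_res', ModLimH13.res', M1.mres_id,
      VA11.pullbackStructureIso_pullSec]
    rfl
  constructor
  · intro h0 s
    have := key s
    rw [h0, Limits.zero_comp] at this
    exact this.symm
  · intro h0
    rw [← cancel_mono (PicLoc.pullbackStructureIso h).hom, Limits.zero_comp]
    refine ModLimH13.pullback_hom_ext h K _ _ fun x => ⟨⊤, Set.univ, trivial, isAffineOpen_top U,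
      Submodule.span_univ, fun s _ => ?_⟩
    rw [key s, h0 s]
    rfl

/-- The sum of the coordinate idempotents of a free module is the identity. -/
theorem sum_π_ι (n : ℕ) : ∑ j : Fin n, Sigma.π (fun _ : Fin n => Coh.structureModule U) j ≫
    Sigma.ι (fun _ : Fin n => Coh.structureModule U) j = 𝟙 _ := by
  classical
  refine Sigma.hom_ext _ _ fun i => ?_
  rw [Preadditive.comp_sum, Category.comp_id, Finset.sum_eq_single i]
  · simp
  · intro j _ hj
    simp [Sigma.ι_π_assoc, Ne.symm hj]
  · simp

theorem pullback_map_eq_zero_iff_coord (h : T ⟶ U) {n : ℕ} (φ : K ⟶ FlatMod.freeMod U n) :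
    (Scheme.Modules.pullback h).map φ = 0 ↔
      ∀ j s, h.appTop (val (φ ≫ Sigma.π (fun _ : Fin n => Coh.structureModule U) j) s) = 0 := by
  have hj : (∀ j s, h.appTop (val (φ ≫ Sigma.π (fun _ : Fin n => Coh.structureModule U) j) s) = 0) ↔
      ∀ j, (Scheme.Modules.pullback h).map (φ ≫ Sigma.π (fun _ : Fin n => Coh.structureModule U) j) = 0 :=
    forall_congr' fun j => (pullback_map_eq_zero_iff h _).symm
  rw [hj]
  constructor
  · intro h0 j
    rw [Functor.map_comp, h0, Limits.zero_comp]
  · intro h0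
    have : Functor.Additive (Scheme.Modules.pullback h) :=
      Functor.additive_of_preserves_binary_products _
    calc (Scheme.Modules.pullback h).map φ
        = (Scheme.Modules.pullback h).map
            (∑ j, (φ ≫ Sigma.π (fun _ : Fin n => Coh.structureModule U) j) ≫
              Sigma.ι (fun _ : Fin n => Coh.structureModule U) j) := by
          simp only [Category.assoc]
          rw [← Preadditive.comp_sum, sum_π_ι, Category.comp_id]
      _ = 0 := by
          rw [Functor.map_sum]
          exact Finset.sum_eq_zero fun j _ => by rw [Functor.map_comp, h0 j, Limits.zero_comp]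

/-- The vanishing locus of a morphism to a free module is a closed subscheme. -/
theorem exists_zero_locus {L : U.Modules} {n : ℕ} (e : L ≅ FlatMod.freeMod U n) (φ : K ⟶ L) :
    ∃ (Z : Scheme.{u}) (ι : Z ⟶ U), IsClosedImmersion ι ∧
      ∀ (T : Scheme.{u}) (h : T ⟶ U), (Scheme.Modules.pullback h).map φ = 0 ↔ ∃ h' : T ⟶ Z, h' ≫ ι = h := by
  let I : Ideal Γ(U, ⊤) := Ideal.span
    (Set.range fun x : Fin n × Γ(K, ⊤) =>
      val ((φ ≫ e.hom) ≫ Sigma.π (fun _ : Fin n => Coh.structureModule U) x.1) x.2)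
  let q : Γ(U, ⊤) ⟶ CommRingCat.of (Γ(U, ⊤) ⧸ I) := CommRingCat.ofHom (Ideal.Quotient.mk I)
  have : IsClosedImmersion (Spec.map q) := IsClosedImmersion.spec_of_surjective q Ideal.Quotient.mk_surjective
  refine ⟨Spec (CommRingCat.of (Γ(U, ⊤) ⧸ I)), Spec.map q ≫ U.isoSpec.inv, inferInstance, fun T h => ?_⟩
  have hiff : (Scheme.Modules.pullback h).map φ = 0 ↔ I ≤ RingHom.ker h.appTop.hom := by
    rw [Ideal.span_le, Set.range_subset_iff, Prod.forall]
    simp only [SetLike.mem_coe, RingHom.mem_ker]
    refine Iff.trans ?_ (pullback_map_eq_zero_iff_coord h (φ ≫ e.hom))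
    rw [Functor.map_comp]
    exact ⟨fun h0 => by rw [h0, Limits.zero_comp], fun h0 => by
      rwa [← cancel_mono ((Scheme.Modules.pullback h).map e.hom), Limits.zero_comp]⟩
  rw [hiff]
  constructor
  · intro hI
    refine ⟨T.toSpecΓ ≫ Spec.map (CommRingCat.ofHom (Ideal.Quotient.lift I h.appTop.hom fun a ha => hI ha)), ?_⟩
    have e1 : q ≫ CommRingCat.ofHom (Ideal.Quotient.lift I h.appTop.hom fun a ha => hI ha) = h.appTop := by
      ext a; exact Ideal.Quotient.lift_mk I h.appTop.hom fun a ha => hI ha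
    rw [Category.assoc, ← Spec.map_comp_assoc, e1, ← Scheme.toSpecΓ_naturality_assoc]
    show h ≫ U.isoSpec.hom ≫ U.isoSpec.inv = h
    rw [Iso.hom_inv_id, Category.comp_id]
  · rintro ⟨h', rfl⟩ a ha
    rw [RingHom.mem_ker, Scheme.Hom.comp_appTop]
    show h'.appTop ((Spec.map q ≫ U.isoSpec.inv).appTop a) = 0
    have e2 : (Spec.map q ≫ U.isoSpec.inv).appTop a = 0 := by
      have hq : q a = 0 := Ideal.Quotient.eq_zero_iff_mem.2 ha
      have e4 : U.isoSpec.inv.appTop = (Scheme.ΓSpecIso Γ(U, ⊤)).inv := by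
        have h1 : U.isoSpec.hom.appTop ≫ U.isoSpec.inv.appTop = 𝟙 _ := by
          rw [← Scheme.Hom.comp_appTop, Iso.inv_hom_id, Scheme.Hom.id_appTop]
        have h2 : U.isoSpec.hom.appTop = (Scheme.ΓSpecIso Γ(U, ⊤)).hom := Scheme.toSpecΓ_appTop U
        rw [h2] at h1
        exact (Iso.hom_comp_eq_id _).1 h1
      have e3 : (Spec.map q ≫ U.isoSpec.inv).appTop = q ≫ (Scheme.ΓSpecIso _).inv := by
        rw [Scheme.Hom.comp_appTop, e4, ← Scheme.ΓSpecIso_inv_naturality]
      rw [e3, CommRingCat.comp_apply, hq, map_zero]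
    rw [e2, map_zero]

end Groth.Agent.GrassClosed13
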